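import Groth.Agent.SSPerf.Fixed
import Groth.Agent.UniRad.Semisimple
import Groth.Agent.RedCartan.Global
import Groth.Agent.Chev.CentDense
import Groth.Agent.Chev.SemiAbelian
import Groth.Agent.Chev.CentCover
import Groth.Agent.ClosedRep.Over
import Groth.Agent.S3911
import Groth.Agent.S3913

/-!
# Homomorphisms out of reductive and semisimple groups
-/

set_option autoImplicit false
set_option backward.isDefEq.respectTransparency false
set_option linter.style.haveILetI false
set_option linter.unusedSectionVars false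
set_option maxHeartbeats 1000000
set_option synthInstance.maxHeartbeats 200000

universe u

open CategoryTheory CategoryTheory.Limits MonoidalCategory CartesianMonoidalCategory MonObj GrpObj AlgebraicGeometry
open Groth.Agent.SubGen (rpt map_rpt exists_rpt)

noncomputable section

namespace Groth.Agent.SSPerf

open Chev Chev.BorelFixed Chev.Borel RedCartan UniRad

variable {k : Type u} [Field k] [IsAlgClosed k]

/-- Morphisms from a reduced scheme of finite type to a separated one are determined by rational points. -/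
theorem hom_ext_rp' {Z W : Over (Spec (CommRingCat.of k))} [IsReduced Z.left] [LocallyOfFiniteType Z.hom]
    [IsSeparated W.hom] {a b : Z ⟶ W} (h : ∀ z : RP Z, z ≫ a = z ≫ b) : a = b := by
  let E := Limits.equalizer a b
  let ei : E ⟶ Z := Limits.equalizer.ι _ _
  haveI : IsClosedImmersion ei.left := inferInstance
  haveI : JacobsonSpace Z.left := LocallyOfFiniteType.jacobsonSpace Z.hom
  obtain ⟨l, hl⟩ := exists_lift_range (𝟙 Z) ei (by
    rintro _ ⟨x, rfl⟩
    refine closure_minimal ?_ ei.left.isClosedEmbedding.isClosed_range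
      (closure_closedPoints (X := Z.left) ▸ Set.mem_univ _)
    intro w hw
    obtain ⟨q, rfl⟩ := exists_rpt hw
    exact ⟨rpt (Limits.equalizer.lift q (h q)), by rw [map_rpt, Limits.equalizer.lift_ι]⟩)
  calc a = l ≫ ei ≫ a := by rw [← Category.assoc, hl, Category.id_comp]
    _ = l ≫ ei ≫ b := by rw [Limits.equalizer.condition]
    _ = b := by rw [← Category.assoc, hl, Category.id_comp]

variable {G : Over (Spec (CommRingCat.of k))} [GrpObj G] [IsAffine G.left] [Smooth G.hom] [ConnectedSpace G.left]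

/-- A homomorphism from a reductive group killing a maximal torus is trivial. -/
theorem eq_one_of_maxTorus (hG : Red.IsReductiveOver k G) {T H : Over (Spec (CommRingCat.of k))} [GrpObj T] [GrpObj H]
    (iT : T ⟶ G) (hT : AGF.IsMaxTorus iT) (f : G ⟶ H) [IsMonHom f] (hf : iT ≫ f = 1) : f = 1 := by
  haveI := hT.1; haveI := hT.2.1
  haveI : IsSeparated H.hom := ClosedRep.isSeparated_of_field k H
  haveI := isAffine_of_isTorus hT.2.2.1
  haveI := smooth_of_isTorus hT.2.2.1
  haveI : IsReduced G.left := SmoothRed.isReduced_of_smooth_scheme G.hom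
  have hc := RedCartan.isCentralizerOf_self_algClosed hG iT hT
  haveI : Smooth (G ⊗ T).hom := by
    show Smooth (pullback.fst G.hom T.hom ≫ G.hom)
    infer_instance
  haveI : IsReduced (G ⊗ T).left := SmoothRed.isReduced_of_smooth_scheme (G ⊗ T).hom
  have hconj : conjMap iT ≫ f = 1 := by
    simp only [conjMap, MonObj.mul_comp, GrpObj.inv_comp, Category.assoc, hf, MonObj.comp_one, _root_.mul_one,
      mul_inv_cancel]
  let E := Limits.equalizer f 1
  let ei : E ⟶ G := Limits.equalizer.ι _ _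
  haveI : IsClosedImmersion ei.left := inferInstance
  obtain ⟨l, hl⟩ := exists_lift_range (𝟙 G) ei (by
    rintro _ ⟨x, rfl⟩
    refine closure_minimal ?_ ei.left.isClosedEmbedding.isClosed_range (denseRange_conjMap iT hT iT hc _)
    rintro _ ⟨y, rfl⟩
    refine ⟨(Limits.equalizer.lift (conjMap iT) (hconj.trans (MonObj.comp_one _).symm)).left y, ?_⟩
    rw [← Scheme.Hom.comp_apply, ← Over.comp_left, Limits.equalizer.lift_ι])
  calc f = l ≫ ei ≫ f := by rw [← Category.assoc, hl, Category.id_comp]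
    _ = l ≫ ei ≫ (1 : G ⟶ H) := by rw [Limits.equalizer.condition]
    _ = 1 := by rw [MonObj.comp_one, MonObj.comp_one]

/-- A homomorphism from a semisimple group centralised by the normalizer of a maximal torus is trivial. -/
theorem eq_one_of_fixed (hG : Red.IsSemisimpleOver k G) {T : Over (Spec (CommRingCat.of k))} [GrpObj T] (iT : T ⟶ G)
    (hT : AGF.IsMaxTorus iT) (w : T ⟶ G) [IsMonHom w]
    (hwT : ∀ p q : RP T, (p ≫ iT) * (q ≫ w) = (q ≫ w) * (p ≫ iT))
    (hwN : ∀ n : RP G, (∀ p : RP T, (∃ p' : RP T, n * (p ≫ iT) * n⁻¹ = p' ≫ iT) ∧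
      (∃ p' : RP T, n⁻¹ * (p ≫ iT) * n = p' ≫ iT)) → ∀ q : RP T, n * (q ≫ w) = (q ≫ w) * n) : w = 1 := by
  haveI := isAffine_of_isTorus hT.2.2.1
  haveI := smooth_of_isTorus hT.2.2.1
  haveI := connectedSpace_of_isTorus hT.2.2.1
  haveI : IsReduced T.left := SmoothRed.isReduced_of_smooth_scheme T.hom
  obtain ⟨B, _, iB, hB, -⟩ := exists_borel_proper G
  obtain ⟨hbm, hbc, hbs, hbconn, hbsol, -⟩ := id hB
  haveI := hbm; haveI := hbc; haveI := hbs; haveI := hbconn
  let S : Subgroup (RP G) := ⨅ g : RP G, (haveI := isMonHom_conjBy g iB; rpHom (AGF.conjBy g iB)).range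
  have hS : ∀ p : RP G, p ∈ S ↔ ∀ g : RP G, ∃ r : RP B, g * (r ≫ iB) * g⁻¹ = p := by
    intro p
    simp only [S, Subgroup.mem_iInf, MonoidHom.mem_range]
    refine forall_congr' fun g => exists_congr fun r => ?_
    show r ≫ AGF.conjBy g iB = p ↔ _
    rw [comp_conjBy, toUnit_one, Category.id_comp]
  obtain ⟨H, _, i, him, hic, hHs, hr⟩ := GrpField.RatClosure.exists_subgroup_closure (G := G) S
  haveI := him; haveI := hic; haveI := hHs
  haveI : IsReduced H.left := SmoothRed.isReduced_of_smooth_scheme H.hom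
  have hHS : ∀ q : RP H, q ≫ i ∈ S := fun q => (hS _).2 fun g => by
    haveI := isClosedImmersion_conjBy g iB
    obtain ⟨r, hr'⟩ := exists_rp_lift (AGF.conjBy g iB) (q ≫ i) (by
      have hq : rpt (q ≫ i) ∈ Set.range i.left := ⟨rpt q, map_rpt _ _⟩
      rw [hr] at hq
      refine (closure_minimal ?_ (AGF.conjBy g iB).left.isClosedEmbedding.isClosed_range) hq
      rintro _ ⟨p, hp, rfl⟩
      obtain ⟨r, rfl⟩ := (hS p).1 hp g
      exact ⟨rpt r, by rw [map_rpt, comp_conjBy, toUnit_one, Category.id_comp]; rfl⟩)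
    exact ⟨r, by rw [← hr', comp_conjBy, toUnit_one, Category.id_comp]⟩
  obtain ⟨V, _, j, hjm, hjo, hjc, hVconn, hVcp⟩ := RedOpen.exists_open_connected H
  haveI := hjm; haveI := hjo; haveI := hjc; haveI := hVconn
  let v : V ⟶ G := j ≫ i
  haveI : IsMonHom v := by dsimp [v]; infer_instance
  haveI : IsClosedImmersion v.left := inferInstanceAs (IsClosedImmersion (j.left ≫ i.left))
  haveI : Smooth V.hom := by rw [← Over.w j]; infer_instance
  haveI : IsAffine V.left := isAffine_of_isAffineHom v.left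
  haveI : IsReduced V.left := SmoothRed.isReduced_of_smooth_scheme V.hom
  obtain ⟨t₀⟩ : Nonempty ↥(𝟙_ (Over (Spec (CommRingCat.of k)))).left := inferInstanceAs (Nonempty (PrimeSpectrum k))
  have hfac : ∀ {X : Over (Spec (CommRingCat.of k))} [IsReduced X.left] [LocallyOfFiniteType X.hom]
      [ConnectedSpace X.left] (f : X ⟶ G) (x : X.left), (∀ z : RP X, z ≫ f ∈ S) → f.left x = η[G].left t₀ →
      ∃ f' : X ⟶ V, f' ≫ v = f := by
    intro X _ _ _ f x hf hx
    obtain ⟨g, hg⟩ := exists_lift_rp f i fun z => by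
      rw [hr]
      exact subset_closure ⟨z ≫ f, hf z, rfl⟩
    obtain ⟨f', hf'⟩ := RedOpen.exists_factor_conn j g ⟨x, η[V].left t₀, by
      refine i.left.isClosedEmbedding.injective ?_
      rw [← Scheme.Hom.comp_apply g.left, ← Over.comp_left, hg, hx, ← Scheme.Hom.comp_apply, ← Scheme.Hom.comp_apply,
        ← Over.comp_left, ← Over.comp_left, ← Category.assoc, IsMonHom.one_hom j, IsMonHom.one_hom i]⟩
    exact ⟨f', by rw [← Category.assoc, hf', hg]⟩
  have hVn : AlgGrp.IsNormalHom v := by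
    obtain ⟨hc, hs, hred⟩ := prod_conn G V
    haveI := hc; haveI := hs; haveI := hred
    let F : G ⊗ V ⟶ G := fst G V * (snd G V ≫ v) * (fst G V)⁻¹
    obtain ⟨n, hn⟩ := hfac F ((lift η[G] η[V] : 𝟙_ _ ⟶ G ⊗ V).left t₀)
      (fun z => (hS _).2 fun g => by
        obtain ⟨r, hr'⟩ := (hS _).1 (hHS ((z ≫ snd G V) ≫ j)) ((z ≫ fst G V)⁻¹ * g)
        refine ⟨r, ?_⟩
        simp only [Category.assoc] at hr'
        simp only [F, v, MonObj.comp_mul, GrpObj.comp_inv]
        rw [← hr']
        group)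
      (by
        rw [← Scheme.Hom.comp_apply, ← Over.comp_left]
        congr 1
        congr 1
        simp only [F, MonObj.comp_mul, GrpObj.comp_inv, CartesianMonoidalCategory.lift_fst,
          CartesianMonoidalCategory.lift_snd_assoc, IsMonHom.one_hom v]
        rw [MonObj.one_eq_one, _root_.mul_one, mul_inv_cancel])
    intro X g z
    refine ⟨lift g z ≫ n, ?_⟩
    rw [Category.assoc, hn, MonObj.comp_mul, MonObj.comp_mul, GrpObj.comp_inv, CartesianMonoidalCategory.lift_snd_assoc,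
      CartesianMonoidalCategory.lift_fst]
  obtain ⟨hVr, -⟩ := isSemisimpleOver_of_normal hG v hVn
  obtain ⟨l, hl⟩ := exists_lift_rp v iB fun z => by
    obtain ⟨r, hr'⟩ := (hS _).1 (hHS (z ≫ j)) 1
    refine ⟨rpt r, ?_⟩
    rw [map_rpt, ← Category.assoc, ← hr', _root_.one_mul, inv_one, _root_.mul_one]
  haveI : Mono iB := GrpField.SchImg.mono_of_isClosedImmersion iB
  haveI : Mono v := GrpField.SchImg.mono_of_isClosedImmersion v
  haveI : IsMonHom l := MTSplit.isMonHom_of_comp_mono l iB v hl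
  haveI : Mono (l ≫ iB) := by rw [hl]; infer_instance
  haveI : Mono l := mono_of_mono l iB
  haveI : Group.IsSolvable (RP V) := isSolvable_rp (isSolvableGrp_of_mono l hbsol)
  haveI : IsIso V.hom := hG.2 V v inferInstance hVn
    (isTorus_of_solvable fun U _ m _ hmc hUs hUc hUn hUt => hVr.2.2.2 U m hmc hUs hUc hUn hUt)
  obtain ⟨f', hf'⟩ := hfac w (η[T].left t₀) (fun z => (hS _).2 fun g => by
    obtain ⟨b, hb⟩ := exists_mem_borel_conj iT hT w hwT hwN iB hB g z
    exact ⟨b, by rw [hb]; group⟩)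
    (by rw [← Scheme.Hom.comp_apply, ← Over.comp_left, IsMonHom.one_hom w])
  have hf1 : f' = toUnit T ≫ η[V] :=
    Over.OverMorphism.ext ((cancel_mono V.hom).1 (by rw [Over.w f', Over.w (toUnit T ≫ η[V])]))
  rw [← hf', hf1, Category.assoc, IsMonHom.one_hom v, Hom.one_def]

/-- **Semisimple groups admit no non-trivial homomorphisms to commutative groups.** -/
theorem eq_one_of_comm (hG : Red.IsSemisimpleOver k G) {H : Over (Spec (CommRingCat.of k))} [GrpObj H]
    [IsCommMonObj H] (f : G ⟶ H) [IsMonHom f] : f = 1 := by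
  classical
  obtain ⟨T, B₀, _, _, t₀, b₀, -, -, hB₀, hT, -⟩ := exists_maxTorus G
  let iT := t₀ ≫ b₀
  haveI := hT.1; haveI := hT.2.1
  haveI := hB₀.1; haveI := hB₀.2.1
  haveI hb₀ : Mono b₀ := GrpField.SchImg.mono_of_isClosedImmersion b₀
  haveI := isAffine_of_isTorus hT.2.2.1
  haveI := smooth_of_isTorus hT.2.2.1
  haveI := connectedSpace_of_isTorus hT.2.2.1
  haveI := locallyOfFiniteType_of_isTorus hT.2.2.1
  haveI : IsReduced T.left := SmoothRed.isReduced_of_smooth_scheme T.hom
  haveI : IsSeparated T.hom := inferInstance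
  haveI : IsClosedImmersion iT.left := MTBridge.isClosedImmersion_of_mono
    (MTBridge.locally_of_isMultTypeFT' T (MTBridge.isMultTypeFT_of_isTorus T hT.2.2.1)) inferInstance iT
  haveI : Smooth (T ⊗ T).hom := by
    show Smooth (pullback.fst T.hom T.hom ≫ T.hom)
    infer_instance
  haveI : IsReduced (T ⊗ T).left := SmoothRed.isReduced_of_smooth_scheme (T ⊗ T).hom
  haveI : IsCommMonObj T := ⟨by
    have h : snd T T * fst T T = fst T T * snd T T := hom_ext_rp fun z => by
      rw [MonObj.comp_mul, MonObj.comp_mul, rp_torus_comm hT.2.2.1]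
    have h1 : μ[T] = fst T T * snd T T := by
      rw [Hom.mul_def]; simp
    rw [h1, MonObj.comp_mul, braiding_hom_fst, braiding_hom_snd]
    exact h⟩
  letI : CommGroup (T ⟶ T) := Hom.commGroup
  letI : CommGroup (T ⟶ H) := Hom.commGroup
  letI : CommGroup (RP T) := Hom.commGroup
  letI : CommGroup (RP H) := Hom.commGroup
  -- the finitely many automorphisms induced by the normalizer
  let W : Set (T ⟶ T) := {τ | IsIso τ ∧ ∃ n : RP G, τ ≫ iT = AGF.conjBy n iT}
  have hW : W.Finite := by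
    let nof : W → RP G := fun τ => τ.2.2.choose
    have hnof : ∀ τ : W, τ.1 ≫ iT = AGF.conjBy (nof τ) iT := fun τ => τ.2.2.choose_spec
    haveI hmono : ∀ n : RP G, Mono (AGF.conjBy n b₀) := fun n => mono_conjBy n b₀
    let F : W → Subobject G := fun τ => Subobject.mk (AGF.conjBy (nof τ) b₀)
    have hmem : ∀ τ : W, F τ ∈ {P : Subobject G | ∃ (B : Over (Spec (CommRingCat.of k))) (_ : GrpObj B) (iB : B ⟶ G)
        (_ : Mono iB), Red.IsBorelOver k iB ∧ (∃ t : T ⟶ B, t ≫ iB = iT) ∧ P = Subobject.mk iB} := fun τ => by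
      haveI := τ.2.1
      refine ⟨B₀, inferInstance, _, hmono _, isBorelOver_conjBy (nof τ) b₀ hB₀, ⟨inv τ.1 ≫ t₀, ?_⟩, rfl⟩
      rw [Category.assoc, comp_conjBy', ← hnof, IsIso.inv_hom_id_assoc]
    have hinj : Function.Injective F := fun τ σ h => by
      haveI := σ.2.1; haveI := τ.2.1
      let ε : B₀ ≅ B₀ := Subobject.isoOfMkEqMk _ _ h
      have hε : ε.hom ≫ AGF.conjBy (nof σ) b₀ = AGF.conjBy (nof τ) b₀ := by simp [ε]
      let τ' : T ≅ T := asIso (τ.1 ≫ inv σ.1)
      have hσ' : inv σ.1 ≫ iT = AGF.conjBy (nof σ)⁻¹ iT := by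
        rw [IsIso.inv_comp_eq, comp_conjBy', hnof, conjBy_conjBy, inv_mul_cancel, conjBy_one]
      have hτ' : τ'.hom ≫ iT = AGF.conjBy ((nof σ)⁻¹ * nof τ) iT := by
        show (τ.1 ≫ inv σ.1) ≫ iT = _
        rw [Category.assoc, hσ', comp_conjBy', hnof, conjBy_conjBy]
      have hε' : ε.hom ≫ b₀ = AGF.conjBy ((nof σ)⁻¹ * nof τ) b₀ := by
        rw [← conjBy_conjBy, ← hε, ← comp_conjBy', conjBy_conjBy, inv_mul_cancel, conjBy_one]
      have h1 := S3911.result k G T B₀ iT b₀ hT hB₀ t₀ rfl _ τ' hτ' ε hε'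
      refine Subtype.ext ((cancel_mono iT).1 ?_)
      have h2 := congrArg (AGF.conjBy (nof σ)) h1
      rw [conjBy_conjBy, mul_inv_cancel_left] at h2
      rw [hnof, hnof, h2]
    haveI := (S3913.result k G T iT hT).to_subtype
    haveI : Finite W := Finite.of_injective (fun τ => (⟨F τ, hmem τ⟩ : {P : Subobject G | ∃ (B : Over (Spec (CommRingCat.of k))) (_ : GrpObj B) (iB : B ⟶ G) (_ : Mono iB), Red.IsBorelOver k iB ∧ (∃ t : T ⟶ B, t ≫ iB = iT) ∧ P = Subobject.mk iB}))
      fun a b h => hinj (congrArg Subtype.val h)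
    exact Set.toFinite W
  let F : Finset (T ⟶ T) := hW.toFinset
  have hmonW : ∀ τ ∈ F, IsMonHom τ := fun τ hτ => by
    obtain ⟨n, hn⟩ := (hW.mem_toFinset.1 hτ).2
    haveI := isMonHom_conjBy n iT
    exact MTSplit.isMonHom_of_comp_mono τ iT _ hn
  let μT : T ⟶ T := ∏ τ ∈ F, τ
  have hμ : ∀ {X : Over (Spec (CommRingCat.of k))} (p : X ⟶ T),
      letI : CommGroup (X ⟶ T) := Hom.commGroup; p ≫ μT = ∏ τ ∈ F, p ≫ τ := fun {X} p => by
    letI : CommGroup (X ⟶ T) := Hom.commGroup
    exact map_prod (MonoidHom.mk' (fun τ : T ⟶ T => p ≫ τ) fun a b => MonObj.comp_mul p a b) _ F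
  haveI : IsMonHom μT := by
    constructor
    · letI : CommGroup (𝟙_ _ ⟶ T) := Hom.commGroup
      rw [hμ, MonObj.one_eq_one]
      exact Finset.prod_eq_one fun τ hτ => by haveI := hmonW τ hτ; rw [← MonObj.one_eq_one, IsMonHom.one_hom]
    · letI : CommGroup (T ⊗ T ⟶ T) := Hom.commGroup
      rw [show μ[T] = fst T T * snd T T by rw [Hom.mul_def]; simp, hμ]
      have h2 : (μT ⊗ₘ μT) ≫ (fst T T * snd T T) = (fst T T ≫ μT) * (snd T T ≫ μT) := by rw [MonObj.comp_mul, tensorHom_fst, tensorHom_snd]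
      rw [h2, hμ, hμ, ← Finset.prod_mul_distrib]
      exact Finset.prod_congr rfl fun τ hτ => by haveI := hmonW τ hτ; rw [MonObj.mul_comp]
  let w : T ⟶ G := μT ≫ iT
  haveI : IsMonHom w := by dsimp [w]; infer_instance
  have hw1 : w = 1 := by
    refine eq_one_of_fixed hG iT hT w (fun p q => ?_) fun n hn q => ?_
    · rw [show q ≫ w = (q ≫ μT) ≫ iT from (Category.assoc _ _ _).symm, ← MonObj.mul_comp, ← MonObj.mul_comp, mul_comm]
    · obtain ⟨τn, hτn⟩ := exists_lift_rp (AGF.conjBy n iT) iT fun p => by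
        obtain ⟨p', hp'⟩ := (hn p).1
        refine ⟨rpt p', ?_⟩
        rw [map_rpt, comp_conjBy, toUnit_one, Category.id_comp, hp']
      obtain ⟨τm, hτm⟩ := exists_lift_rp (AGF.conjBy n⁻¹ iT) iT fun p => by
        obtain ⟨p', hp'⟩ := (hn p).2
        refine ⟨rpt p', ?_⟩
        rw [map_rpt, comp_conjBy, toUnit_one, Category.id_comp, _root_.inv_inv, hp']
      haveI : IsIso τn := ⟨τm, (cancel_mono iT).1 (by
          rw [Category.assoc, hτm, comp_conjBy', hτn, conjBy_conjBy, inv_mul_cancel, conjBy_one, Category.id_comp]),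
        (cancel_mono iT).1 (by
          rw [Category.assoc, hτn, comp_conjBy', hτm, conjBy_conjBy, mul_inv_cancel, conjBy_one, Category.id_comp])⟩
      haveI : IsMonHom τn := by
        haveI := isMonHom_conjBy n iT
        exact MTSplit.isMonHom_of_comp_mono τn iT _ hτn
      have hinv : (q ≫ μT) ≫ τn = q ≫ μT := by
        rw [hμ, show (∏ τ ∈ F, q ≫ τ) ≫ τn = ∏ τ ∈ F, (q ≫ τ) ≫ τn from
          map_prod (rpHom τn) _ F]
        refine Finset.prod_nbij' (fun τ => τ ≫ τn) (fun τ => τ ≫ inv τn) (fun τ hτ => ?_) (fun τ hτ => ?_)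
          (fun τ _ => by simp) (fun τ _ => by simp) (fun τ _ => Category.assoc _ _ _)
        · obtain ⟨hi, m, hm⟩ := hW.mem_toFinset.1 hτ
          haveI := hi
          refine hW.mem_toFinset.2 ⟨inferInstance, n * m, ?_⟩
          rw [Category.assoc, hτn, comp_conjBy', hm, conjBy_conjBy]
        · obtain ⟨hi, m, hm⟩ := hW.mem_toFinset.1 hτ
          haveI := hi
          refine hW.mem_toFinset.2 ⟨inferInstance, n⁻¹ * m, ?_⟩
          have h3 : inv τn ≫ iT = AGF.conjBy n⁻¹ iT := by
            rw [IsIso.inv_comp_eq, comp_conjBy', hτn, conjBy_conjBy, inv_mul_cancel, conjBy_one]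
          rw [Category.assoc, h3, comp_conjBy', hm, conjBy_conjBy]
      have h1 := congrArg (fun z => z ≫ iT) hinv
      simp only [Category.assoc] at h1
      rw [hτn, ← Category.assoc q μT, comp_conjBy, toUnit_one, Category.id_comp, Category.assoc] at h1
      exact mul_inv_eq_iff_eq_mul.1 h1
  have hμ1 : μT = 1 := (cancel_mono iT).1 (by rw [MonObj.one_comp]; exact hw1)
  haveI : IsSeparated H.hom := ClosedRep.isSeparated_of_field k H
  let φ : T ⟶ H := iT ≫ f
  haveI : IsMonHom φ := by dsimp [φ]; infer_instance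
  have hφ : ∀ τ ∈ F, τ ≫ φ = φ := fun τ hτ => by
    obtain ⟨n, hn⟩ := (hW.mem_toFinset.1 hτ).2
    rw [← Category.assoc, hn]
    simp only [AGF.conjBy, MonObj.mul_comp, GrpObj.inv_comp, φ, mul_right_comm _ (iT ≫ f), mul_inv_cancel,
      _root_.one_mul]
  have hN : 0 < F.card := Finset.card_pos.2 ⟨𝟙 T, hW.mem_toFinset.2 ⟨inferInstance, 1, by simp [conjBy_one]⟩⟩
  haveI : QuasiCompact T.hom := haveI := isAffineHom_of_isAffine T.hom; inferInstance
  haveI := surjective_pow_torus_algClosed hT.2.2.1 hN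
  have hpow : ∀ p : RP T, (p ≫ φ) ^ F.card = 1 := fun p => by
    have h := congrArg (fun z => z ≫ φ) (hμ p)
    rw [show p ≫ μT = 1 by rw [hμ1, MonObj.comp_one]] at h
    simp only [MonObj.one_comp] at h
    rw [show (∏ τ ∈ F, p ≫ τ) ≫ φ = ∏ τ ∈ F, (p ≫ τ) ≫ φ from map_prod (rpHom φ) _ F,
      Finset.prod_congr rfl fun τ hτ => show (p ≫ τ) ≫ φ = p ≫ φ by rw [Category.assoc, hφ τ hτ],
      Finset.prod_const] at h
    exact h.symm
  refine eq_one_of_maxTorus hG.1 iT hT f (hom_ext_rp' fun z => ?_)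
  obtain ⟨y, hy⟩ := exists_rp_of_mem_range (𝟙 T ^ F.card) z ((𝟙 T ^ F.card).left.surjective _)
  rw [MonObj.comp_one, ← hy, MonObj.comp_pow, Category.comp_id]
  show (y ^ F.card) ≫ φ = 1
  rw [MonObj.pow_comp]
  exact hpow y

end Groth.Agent.SSPerf
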