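import Groth.Agent.UniRad.Main
import Groth.Agent.Chev.BorelCent

/-!
# Torus points fixed by the normalizer lie in every Borel subgroup
-/

set_option autoImplicit false
set_option backward.isDefEq.respectTransparency false
set_option linter.style.haveILetI false
set_option linter.unusedSectionVars false
set_option maxHeartbeats 1000000
set_option synthInstance.maxHeartbeats 200000

universe u

open CategoryTheory CategoryTheory.Limits MonoidalCategory CartesianMonoidalCategory MonObj GrpObj AlgebraicGeometry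
open WithConv
open Groth.Agent.SubGen (rpt map_rpt exists_rpt)
open Groth.Agent.MTBridge (specGrp)

noncomputable section

namespace Groth.Agent.SSPerf

open Chev Chev.BorelFixed Chev.Borel RedCartan UniRad

variable {k : Type u} [Field k] [IsAlgClosed k] {G : Over (Spec (CommRingCat.of k))} [GrpObj G] [IsAffine G.left]
  [Smooth G.hom] [ConnectedSpace G.left]

/-- The value of an integral power determines the exponent. -/
theorem zpow_exp_eq {j j₀ : ℤ} (h : ∀ s : kˣ, (s : k) ^ j = (s : k) ^ j₀) : j = j₀ := by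
  classical
  by_contra hne
  have h1 := eq_zero_of_sum_zpow (k := k) (V := k) ({j, j₀} : Finset ℤ) id Function.injective_id.injOn
    (fun i => if i = j then (1 : k) else -1) (fun s => by
      rw [Finset.sum_insert (by simpa using hne), Finset.sum_singleton]
      simp [if_neg (Ne.symm hne), h s]) (Finset.mem_insert_self j {j₀})
  simp at h1

/-- A point of a maximal torus commuting with the normalizer of the torus lies in every Borel subgroup. -/
theorem exists_mem_borel_conj {T B : Over (Spec (CommRingCat.of k))} [GrpObj T] [GrpObj B] (iT : T ⟶ G)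
    (hT : AGF.IsMaxTorus iT) (w : T ⟶ G) [IsMonHom w]
    (hwT : ∀ p q : RP T, (p ≫ iT) * (q ≫ w) = (q ≫ w) * (p ≫ iT))
    (hwN : ∀ n : RP G, (∀ p : RP T, (∃ p' : RP T, n * (p ≫ iT) * n⁻¹ = p' ≫ iT) ∧
      (∃ p' : RP T, n⁻¹ * (p ≫ iT) * n = p' ≫ iT)) → ∀ q : RP T, n * (q ≫ w) = (q ≫ w) * n)
    (iB : B ⟶ G) (hB : Red.IsBorelOver k iB) (g : RP G) (q : RP T) :
    ∃ b : RP B, b ≫ iB = g⁻¹ * (q ≫ w) * g := by
  classical
  obtain ⟨him, himono, hTt, -⟩ := id hT
  haveI := him; haveI := himono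
  obtain ⟨hBm, hBc, hBs, hBconn, hBsol, -⟩ := id hB
  haveI := hBm; haveI := hBc; haveI := hBs; haveI := hBconn
  haveI := isAffine_of_isTorus hTt
  haveI := smooth_of_isTorus hTt
  haveI := locallyOfFiniteType_of_isTorus hTt
  haveI : IsReduced T.left := SmoothRed.isReduced_of_smooth_scheme T.hom
  obtain ⟨A, hA, e, he⟩ := FinHopf.exists_hopf (R := CommRingCat.of k) G
  haveI := he
  obtain ⟨V, _, _, hfin, ρ, v, hv, hρ, hline⟩ := exists_borel_line iB hB e
  haveI := hfin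
  obtain ⟨B₀, _, b₀, hB₀, X, aX, o, hX, hXp⟩ := exists_borel_proper G
  obtain ⟨h₀, ε, hε⟩ := borel_conj b₀ iB hB₀ hB
  have hK : IsZar (k := k) (cone ρ v) := by
    -- transport the closed cone from the proper quotient
    haveI := hB₀.1; haveI := hB₀.2.1; haveI := hB₀.2.2.1
    have hline₀ : ∀ b : RP B₀, ∃ c : k, ρ (b ≫ b₀) (ρ h₀⁻¹ v) = c • ρ h₀⁻¹ v := fun b => by
      obtain ⟨c, hc⟩ := (hline _).1 ⟨b ≫ ε.hom, rfl⟩
      refine ⟨c, ?_⟩
      rw [Category.assoc, hε, comp_conjBy, toUnit_one, Category.id_comp] at hc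
      rw [← Module.End.mul_apply, ← map_mul, show (b ≫ b₀) * h₀⁻¹ = h₀⁻¹ * (h₀ * (b ≫ b₀) * h₀⁻¹) by group,
        map_mul, Module.End.mul_apply, hc, map_smul]
    have h1 := isZar_cone b₀ hB₀ aX o hX e hρ (rho_ne_zero ρ h₀⁻¹ hv) hline₀
    have h2 : cone ρ (ρ h₀⁻¹ v) = cone ρ v := by
      ext z
      constructor
      · rintro ⟨a, c, rfl⟩
        exact ⟨a * h₀⁻¹, c, by rw [map_mul, Module.End.mul_apply]⟩
      · rintro ⟨a, c, rfl⟩
        exact ⟨a * h₀, c, by rw [map_mul, Module.End.mul_apply, ← Module.End.mul_apply (ρ h₀), ← map_mul, mul_inv_cancel,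
          map_one, Module.End.one_apply]⟩
    rwa [h2] at h1
  -- weights of w
  obtain ⟨J, Q, L, hop, hQL, hQe⟩ := exists_cochar hTt w e hρ
  have hone : ∀ x, ∑ j ∈ J, Q j x = x := fun x => by
    have h := hop 1 x
    have h1 : ρ (L 1 ≫ w) x = ∑ j ∈ J, Q j x := h.trans (Finset.sum_congr rfl fun j _ => by simp)
    have h2 : ρ (L 1 ≫ w) (∑ j ∈ J, Q j x) = ∑ j ∈ J, Q j x := by
      rw [map_sum]
      exact Finset.sum_congr rfl fun j hj => by rw [hQL 1 j hj x]; simp
    rw [← h1] at h2 ⊢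
    have h3 := congrArg (ρ (L 1 ≫ w)⁻¹) h2
    rwa [rho_cancel, rho_cancel] at h3
  have hop1 : ρ (L 1 ≫ w) = 1 := LinearMap.ext fun x => by
    rw [Module.End.one_apply]
    exact ((hop 1 x).trans (Finset.sum_congr rfl fun j _ => by simp)).trans (hone x)
  have hidem : ∀ i ∈ J, ∀ x, Q i (Q i x) = Q i x := by
    intro i hi x
    have h := eq_zero_of_sum_zpow (k := k) J id Function.injective_id.injOn
      (fun j => Q j (Q i x) - if j = i then Q i x else 0) (fun s => ?_) hi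
    · simpa [sub_eq_zero] using h
    · simp only [id, smul_sub, Finset.sum_sub_distrib, ← hop, hQL s i hi, smul_ite, smul_zero, Finset.sum_ite_eq', if_pos hi,
        sub_self]
  have hcommQ : ∀ (p : RP T), ∀ j ∈ J, ∀ x, ρ (p ≫ iT) (Q j x) = Q j (ρ (p ≫ iT) x) := by
    intro p j hj x
    refine sub_eq_zero.1 (eq_zero_of_sum_zpow (k := k) J id Function.injective_id.injOn
      (fun i => ρ (p ≫ iT) (Q i x) - Q i (ρ (p ≫ iT) x)) (fun s => ?_) hj)
    simp only [id, smul_sub, Finset.sum_sub_distrib, ← hop]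
    rw [← Module.End.mul_apply, ← map_mul, ← hwT p (L s), map_mul, Module.End.mul_apply, hop, map_sum, sub_eq_zero]
    exact Finset.sum_congr rfl fun i _ => by rw [map_smul]
  -- a torus eigenline of the cone in each weight
  obtain ⟨J', Q', L', hop', hQL', hQe'⟩ := exists_cochar hTt iT e hρ
  have hone' : ρ (L' 1 ≫ iT) = 1 := LinearMap.ext fun x => by
    have h1 : ∀ x, ρ (L' 1 ≫ iT) x = ∑ j ∈ J', Q' j x := fun x =>
      (hop' 1 x).trans (Finset.sum_congr rfl fun j _ => by simp)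
    have h2 : ρ (L' 1 ≫ iT) (∑ j ∈ J', Q' j x) = ∑ j ∈ J', Q' j x := by
      rw [map_sum]
      exact Finset.sum_congr rfl fun j hj => by rw [hQL' 1 j hj x]; simp
    rw [← h1] at h2
    have h3 := congrArg (ρ (L' 1 ≫ iT)⁻¹) h2
    rwa [rho_cancel, rho_cancel] at h3
  have heig : ∀ j ∈ J, ∀ y ∈ cone ρ v, y ≠ 0 → Q j y = y →
      ∃ g : RP G, (∀ t : RP T, ∃ c : k, ρ (t ≫ iT) (ρ g v) = c • ρ g v) ∧
        ∀ s : kˣ, ρ (L s ≫ w) (ρ g v) = (s : k) ^ j • ρ g v := by
    intro j hj y hy hy0 hQy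
    let Φ : Set (V →ₗ[k] k) := Set.range fun ψ : V →ₗ[k] k => ψ ∘ₗ (Q j - 1)
    have hΦ : ∀ z, (∀ φ ∈ Φ, φ z = 0) ↔ Q j z = z := fun z => by
      refine ⟨fun h => sub_eq_zero.1 ((Module.forall_dual_apply_eq_zero_iff k _).1 fun ψ => ?_), ?_⟩
      · exact h _ ⟨ψ, rfl⟩
      · rintro h _ ⟨ψ, rfl⟩
        simp [h]
    obtain ⟨j', hj', hne, -, hmem⟩ := exists_leading (hK.inter_ker Φ)
      (fun z hz c => ⟨smul_mem_cone ρ v hz.1 c, fun φ hφ => by rw [map_smul, hz.2 φ hφ, smul_zero]⟩) J' Q'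
      (fun s => ρ (L' s ≫ iT)) (fun s x => hop' s x) (fun s z hz => ⟨rho_mem_cone ρ v hz.1 _, (hΦ _).2 (by
        rw [← hcommQ _ j hj, (hΦ z).1 hz.2])⟩) hone' (⟨hy, (hΦ y).2 hQy⟩ : y ∈ {z ∈ cone ρ v | ∀ φ ∈ Φ, φ z = 0}) hy0
    obtain ⟨g, a, hg⟩ := hmem.1
    have ha : a ≠ 0 := fun h => hne (by rw [hg, h, zero_smul])
    refine ⟨g, fun t => ?_, fun s => ?_⟩
    · obtain ⟨c, hc⟩ := hQe' t j' hj'
      refine ⟨c, smul_right_injective V ha ?_⟩
      have h := hc y
      rw [hg, map_smul, smul_comm] at h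
      exact h
    · refine smul_right_injective V ha ?_
      have h := hQL s j hj (Q' j' y)
      rw [(hΦ _).1 hmem.2, hg, map_smul, smul_comm] at h
      exact h
  -- the weight of the cone
  obtain ⟨j₀, hj₀, hne₀, -, hmem₀⟩ := exists_leading hK (fun z hz c => smul_mem_cone ρ v hz c) J Q
    (fun s => ρ (L s ≫ w)) (fun s x => hop s x) (fun s z hz => rho_mem_cone ρ v hz _) hop1 (self_mem_cone ρ v) hv
  obtain ⟨g₀, hg₀, hs₀⟩ := heig j₀ hj₀ _ hmem₀ hne₀ (hidem j₀ hj₀ v)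
  have hweight : ∀ j ∈ J, ∀ y ∈ cone ρ v, y ≠ 0 → Q j y = y → j = j₀ := by
    intro j hj y hy hy0 hQy
    obtain ⟨g, hg, hs⟩ := heig j hj y hy hy0 hQy
    obtain ⟨n, hn, c, hc, hnv⟩ := exists_normalizer iT hT iB hB hv hline hg₀ hg
    refine zpow_exp_eq (k := k) fun s => ?_
    have h1 : ρ (L s ≫ w) (ρ n (ρ g₀ v)) = ρ n (ρ (L s ≫ w) (ρ g₀ v)) := by
      rw [← Module.End.mul_apply (ρ (L s ≫ w)), ← map_mul, ← hwN n hn (L s), map_mul, Module.End.mul_apply]
    rw [hs₀, map_smul, hnv, map_smul, hs, smul_smul, smul_smul] at h1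
    have h2 := smul_left_injective k (rho_ne_zero ρ g hv) h1
    rw [mul_comm c] at h2
    exact mul_right_cancel₀ hc h2
  -- every vector of the cone has that weight
  have hpure : ∀ y ∈ cone ρ v, Q j₀ y = y := by
    intro y hy
    by_cases hy0 : y = 0
    · rw [hy0, map_zero]
    obtain ⟨j₁, hj₁, hne₁, hlow, hmem₁⟩ := exists_leading hK (fun z hz c => smul_mem_cone ρ v hz c) J Q
      (fun s => ρ (L s ≫ w)) (fun s x => hop s x) (fun s z hz => rho_mem_cone ρ v hz _) hop1 hy hy0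
    obtain ⟨j₂, hj₂, hne₂, hhigh, hmem₂⟩ := exists_leading hK (fun z hz c => smul_mem_cone ρ v hz c)
      (J.map (Equiv.neg ℤ).toEmbedding) (fun i => Q (-i))
      (fun s => ρ (L s⁻¹ ≫ w)) (fun s x => by
        rw [hop, Finset.sum_map]
        refine Finset.sum_congr rfl fun j _ => ?_
        simp) (fun s z hz => rho_mem_cone ρ v hz _) (by simpa using hop1) hy hy0
    have hj₂' : -j₂ ∈ J := by
      obtain ⟨i, hi, rfl⟩ := Finset.mem_map.1 hj₂
      simpa using hi
    have e₁ := hweight j₁ hj₁ _ hmem₁ hne₁ (hidem j₁ hj₁ y)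
    have e₂ := hweight (-j₂) hj₂' _ hmem₂ hne₂ (hidem (-j₂) hj₂' y)
    conv_rhs => rw [← hone y]
    refine (Finset.sum_eq_single (f := fun j => Q j y) j₀ (fun j hj hne => ?_) (fun h => absurd hj₀ h)).symm
    rcases lt_or_gt_of_ne hne with hlt | hgt
    · exact hlow j hj (e₁ ▸ hlt)
    · have := hhigh (-j) (Finset.mem_map.2 ⟨j, hj, rfl⟩) (by omega)
      simpa using this
  obtain ⟨c, hc⟩ := hQe q j₀ hj₀
  have h1 := hc (ρ g v)
  rw [hpure _ (rho_mem_cone ρ v (self_mem_cone ρ v) g)] at h1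
  exact (hline (g⁻¹ * (q ≫ w) * g)).2 ⟨c, by simp only [map_mul, Module.End.mul_apply, h1, map_smul, rho_cancel]⟩

end Groth.Agent.SSPerf
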